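import Mathlib
import Cfsg.Agent.H608.KKL.C2
import Cfsg.Agent.H613.KS.Defs
import Cfsg.Agent.H850.KS.Hyp
import Cfsg.Agent.H649.PairInduced

/-!
# S4577, task PA4: an element of the defect group fixed by the inertial group

* `main_fixed`: `D` abelian of order `2^(n+3)`, `u ∈ D` of order `2^n` fixed by the stabilizer of the maximal pair,
  squares of elements of `D` in `⟨u⟩`: `k(B) = 2^(n+3)` and all heights are zero;
* `pa4_fix`: `D` elementary abelian of order 16, the inertial group fixes some `u ≠ 1` in `D`: heights zero.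
-/

set_option autoImplicit false
set_option linter.unusedSectionVars false

open Cfsg

namespace Cfsg.Agent.H608.KS

open Cfsg.Agent.Blocks.Local Cfsg.Agent.Characters
open Cfsg.Agent.H649 Cfsg.Agent.H651 Cfsg.Agent.H652.DoubleCount
open Cfsg.Agent.H645.FusCount (stab mem_stab ctrl_of_abelian)
open Cfsg.Agent.H644 (isMaximalBrauerPair_of_isDefectGroup isDefectGroup_of_isMaximalBrauerPair)
open Cfsg.Agent.H644.CentralQuot (defl blockRank_defl isPBlock_defl)
open Cfsg.Agent.H608.KKL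

universe u

/-- **The theorem for an element fixed by the stabilizer.** -/
theorem main_fixed (hz : ∀ (H : Type u) [Group H] [Finite H], Cfsg.Agent.H613.KKL.HZ H) {G : Type u} [Group G] [Finite G]
    {M : Ideal AlgInt} (hM : IsPModular 2 M) {B : Set (IrrCharacter G)} (hB : IsPBlock M B) {a : BrauerPairIdx G}
    (hmax : IsMaximalBrauerPair 2 M B a.1 a.2) {n : ℕ} (hab : ∀ x ∈ a.1, ∀ y ∈ a.1, x * y = y * x)
    (hcd : Nat.card a.1 = 2 ^ (n + 3)) {u : G} (hu : u ∈ a.1) (hord : orderOf u = 2 ^ n)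
    (huT : ∀ t ∈ stab a, t * u * t⁻¹ = u) (hsq : ∀ d ∈ a.1, d * d ∈ Subgroup.zpowers u) :
    Nat.card B = 2 ^ (n + 3) ∧ (∀ χ ∈ B, blockHeight 2 B (χ : G → ℂ) = 0) ∧
      (blockRank 2 B = 1 ∨ blockRank 2 B = 3 ∨ blockRank 2 B = 5 ∨ blockRank 2 B = 7) := by
  classical
  have : Fact (Nat.Prime 2) := ⟨Nat.prime_two⟩
  have hMp := isPrime_of_isPModular hM
  have := Fintype.ofFinite G
  have hD : IsDefectGroup 2 M B a.1 := isDefectGroup_of_isMaximalBrauerPair hM hmax
  -- Watanabe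
  have hw1 := Cfsg.Agent.H645.Watanabe.rank_eq hM hmax hab hu huT
  have hw2 := Cfsg.Agent.H645.Watanabe.card_eq hM hmax hab hu huT
  -- the block at `u`
  have hloc : 2 ^ (n + 3) ≤ Nat.card (bP 2 M a u).2 ∧ (blockRank 2 (bP 2 M a u).2 = 1 ∨ blockRank 2 (bP 2 M a u).2 = 3 ∨
      blockRank 2 (bP 2 M a u).2 = 5 ∨ blockRank 2 (bP 2 M a u).2 = 7) := by
    obtain ⟨h1, h2⟩ := bP_spec hM hmax.1.1 hu
    revert h1 h2
    generalize bP 2 M a u = b
    obtain ⟨Q, f⟩ := b
    rintro hQ hle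
    have hQ' : Q = Subgroup.zpowers u := hQ
    subst hQ'
    obtain ⟨hf, hQP, hPC, hDf, hUc, hUD, -⟩ := exists_local hM hmax hab hle
    have huC : u ∈ Subgroup.centralizer ((Subgroup.zpowers u : Subgroup G) : Set G) := hPC hu
    refine card_ge_local hz hM hf hDf ?_ (fun x hx y hy => Subtype.ext (hab x hx y hy)) (u := ⟨u, huC⟩) hu
      (fun g => Subtype.ext (Subgroup.mem_centralizer_iff.1 g.2 u (Subgroup.mem_zpowers u)).symm) ?_ fun d hd => ?_
    · rw [Nat.card_congr (Subgroup.subgroupOfEquivOfLe hPC).toEquiv, hcd]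
    · rw [Subgroup.orderOf_mk, hord]
    · obtain ⟨k, hk⟩ := Subgroup.mem_zpowers_iff.1 (hsq d hd)
      exact Subgroup.mem_zpowers_iff.2 ⟨k, Subtype.ext hk⟩
  rw [hw1, hw2] at hloc
  have hdef : (2 : ℕ) ^ blockDefect 2 B = 2 ^ (n + 3) := by
    rw [← Cfsg.Agent.S0908.result 2 M hM B hB a.1 hD, hcd]
  -- a local block of rank at most three
  obtain ⟨v, hv, hvu⟩ : ∃ v ∈ a.1, v ∉ Subgroup.zpowers u := by
    by_contra hcon
    push Not at hcon
    have h1 := Subgroup.card_le_of_le (show a.1 ≤ Subgroup.zpowers u from hcon)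
    rw [hcd, Nat.card_zpowers, hord] at h1
    exact absurd (Nat.pow_lt_pow_right (by norm_num : 1 < 2) (by omega : n < n + 3)) (not_lt.2 h1)
  have hlv : blockRank 2 (bP 2 M a v).2 ≤ 3 := by
    obtain ⟨h1, h2⟩ := bP_spec hM hmax.1.1 hv
    obtain ⟨b, hb1, hb⟩ := Cfsg.Agent.H645.Watanabe.exists_pair hM hmax.1.1 (Q := (bP 2 M a v).1 ⊔ Subgroup.zpowers u)
      (sup_le (LEIdx.le h2) (Subgroup.zpowers_le_of_mem hu))
    have := Fintype.ofFinite (Subgroup.centralizer ((bP 2 M a v).1 : Set G))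
    rw [← Cfsg.Agent.H645.Watanabe.rank_local hM hmax hab (Q := (bP 2 M a v).1) (f := (bP 2 M a v).2) h2
      (Cfsg.Agent.H645.Watanabe.thm_all hM _ _ rfl) hu huT hb1 hb]
    refine rank_pair_le hM hmax hab (Q := b.1) hb ?_
    rw [hcd]
    have hbp : IsPGroup 2 b.1 := hmax.1.1.1.to_le (LEIdx.le hb)
    obtain ⟨j, hj⟩ := IsPGroup.iff_card.1 hbp
    have hlt : Nat.card (Subgroup.zpowers u) < Nat.card b.1 := by
      refine lt_of_le_of_ne (Subgroup.card_le_of_le (by rw [hb1]; exact le_sup_right)) fun he => hvu ?_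
      have h3 : Subgroup.zpowers u = b.1 := Subgroup.eq_of_le_of_card_ge (by rw [hb1]; exact le_sup_right) he.ge
      rw [h3, hb1, h1]
      exact Subgroup.mem_sup_left (Subgroup.mem_zpowers v)
    rw [Nat.card_zpowers, hord, hj] at hlt
    have h4 : n < j := (Nat.pow_lt_pow_iff_right (by norm_num)).1 hlt
    rw [hj, show 4 = 2 ^ 2 by norm_num, ← pow_add]
    exact pow_dvd_pow 2 (by omega)
  have hbd := bound hM hmax hab hv hlv
  rw [hdef] at hbd
  have hk : Nat.card B = 2 ^ (n + 3) := le_antisymm hbd.1 hloc.1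
  exact ⟨hk, hbd.2 hk, hloc.2⟩


/-- **PA4, a fixed element.** -/
theorem pa4_fix (hz : ∀ (H : Type u) [Group H] [Finite H], Cfsg.Agent.H613.KKL.HZ H) {G : Type u} [Group G] [Finite G]
    {M : Ideal AlgInt} (hM : IsPModular 2 M) {B : Set (IrrCharacter G)} (hB : IsPBlock M B) {D : Subgroup G}
    (hD : IsDefectGroup 2 M B D) (hE : Cfsg.Agent.H613.KS.E16 D)
    (c : Set (IrrCharacter ↥(Subgroup.centralizer (D : Set G))))
    (hc : IsInducedBlock M (Subgroup.centralizer (D : Set G)) c B) (T : Subgroup G)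
    (hT : ∀ g : G, g ∈ T ↔ (g ∈ Subgroup.normalizer (D : Set G) ∧
      StabilizesBlock (Subgroup.centralizer (D : Set G)) c g))
    {u : G} (hu : u ∈ D) (hu1 : u ≠ 1) (hfix : ∀ t ∈ T, t * u * t⁻¹ = u) :
    ∀ χ ∈ B, blockHeight 2 B (χ : G → ℂ) = 0 := by
  classical
  have : Fact (Nat.Prime 2) := ⟨Nat.prime_two⟩
  have hMp := isPrime_of_isPModular hM
  have := Fintype.ofFinite G
  have hDp : IsPGroup 2 D := Cfsg.Agent.H641.isPGroup_of_isDefectGroup hD
  have he : IsBrauerPairOf 2 M B D c := (isBrauerPairOf_iff_isInducedBlock hM hB hDp hc.1).2 hc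
  have hmax : IsMaximalBrauerPair 2 M B D c := isMaximalBrauerPair_of_isDefectGroup hM he hD
  have hab : ∀ x ∈ D, ∀ y ∈ D, x * y = y * x := by
    intro x hx y hy
    have h1 := hE.inv x hx
    have h2 := hE.inv y hy
    have h3 := hE.inv (x * y) (D.mul_mem hx hy)
    calc x * y = x * (x * y * (x * y)) * y := by rw [h3, mul_one]
      _ = x * x * (y * x) * (y * y) := by group
      _ = y * x := by rw [h1, h2, one_mul, mul_one]
  refine (main_fixed hz hM hB (a := ⟨D, c⟩) hmax (n := 1) hab (by rw [hE.card]; norm_num) hu ?_ ?_ ?_).2.1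
  · rw [pow_one]
    exact orderOf_eq_prime (by rw [pow_two]; exact hE.inv u hu) hu1
  · intro t ht
    refine hfix t ((hT t).2 ?_)
    rw [mem_stab] at ht
    exact (conjIdx_eq_iff he.1.2 t).1 ht
  · intro d hd
    rw [hE.inv d hd]
    exact Subgroup.one_mem _

/-- **PA4Fix** (helper850's statement) from the theorem for `2^3`. -/
theorem pa4Fix_of (hz : ∀ (H : Type u) [Group H] [Finite H], Cfsg.Agent.H613.KKL.HZ H) : Cfsg.Agent.H850.KS.PA4Fix.{u} :=
  fun hM _ hB _ hD hE c hc T hT _ hu hu1 hfix => pa4_fix hz hM hB hD hE c hc T hT hu hu1 hfix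

end Cfsg.Agent.H608.KS
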